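import Mathlib.Analysis.Fourier.FiniteAbelian.PontryaginDuality
import Mathlib.NumberTheory.LegendreSymbol.Complex
import Mathlib.RepresentationTheory.Character
import Mathlib.RepresentationTheory.Irreducible
import Mathlib.Analysis.Complex.Polynomial.Basic
import Mathlib.LinearAlgebra.Eigenspace.Triangularizable
import Mathlib.LinearAlgebra.Trace

/-!
Eigenspace decomposition of a complex representation under the image of a finite abelian group,
and a trace criterion for linear independence on one eigenspace.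
-/

set_option autoImplicit false

namespace Cfsg.Agent.Lib.MinDegForms

open Module

universe u v w

variable {α : Type u} [AddCommGroup α] [Fintype α] {Γ : Type w} [Group Γ]
  {V : Type v} [AddCommGroup V] [Module ℂ V]
variable (ρ : Representation ℂ Γ V) (x : α → Γ)

/-- The projection on the eigenspace of a character. -/
noncomputable def proj (χ : AddChar α ℂ) : Module.End ℂ V :=
  (Fintype.card α : ℂ)⁻¹ • ∑ a : α, χ (-a) • ρ (x a)

/-- The multiplicity of a character. -/
noncomputable def mult (χ : AddChar α ℂ) : ℕ := finrank ℂ (LinearMap.range (proj ρ x χ))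

variable {ρ x}

theorem card_ne : (Fintype.card α : ℂ) ≠ 0 := Nat.cast_ne_zero.2 Fintype.card_ne_zero

omit [Fintype α] in
theorem x_zero (hx : ∀ a b, x (a + b) = x a * x b) : x 0 = 1 := by
  have := hx 0 0
  rw [add_zero] at this
  exact mul_eq_left.1 this.symm

theorem rho_mul_proj (hx : ∀ a b, x (a + b) = x a * x b) (χ : AddChar α ℂ) (b : α) :
    ρ (x b) * proj ρ x χ = χ b • proj ρ x χ := by
  rw [proj, mul_smul_comm, smul_comm]
  congr 1
  rw [Finset.mul_sum, Finset.smul_sum]
  refine Fintype.sum_equiv (Equiv.addLeft b) _ _ fun a => ?_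
  simp only [Equiv.coe_addLeft, mul_smul_comm, ← map_mul, ← hx, smul_smul,
    ← AddChar.map_add_eq_mul]
  congr 2
  abel

theorem proj_mul_rho (hx : ∀ a b, x (a + b) = x a * x b) (χ : AddChar α ℂ) (b : α) :
    proj ρ x χ * ρ (x b) = χ b • proj ρ x χ := by
  rw [← rho_mul_proj hx, proj, mul_smul_comm, smul_mul_assoc, Finset.mul_sum, Finset.sum_mul]
  congr 1
  refine Finset.sum_congr rfl fun a _ => ?_
  rw [mul_smul_comm, smul_mul_assoc, ← map_mul, ← map_mul, ← hx, ← hx, add_comm]

theorem proj_mul_proj (hx : ∀ a b, x (a + b) = x a * x b) (χ χ' : AddChar α ℂ) :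
    proj ρ x χ' * proj ρ x χ = if χ' = χ then proj ρ x χ else 0 := by
  conv_lhs => rw [proj, smul_mul_assoc, Finset.sum_mul]
  simp only [smul_mul_assoc, rho_mul_proj hx, smul_smul]
  rw [← Finset.sum_smul, smul_smul]
  have : ∀ a, χ' (-a) * χ a = (χ'⁻¹ * χ) a := fun a => by
    rw [AddChar.mul_apply, AddChar.inv_apply]
  simp only [this]
  by_cases h : χ' = χ
  · subst h
    simp [card_ne]
  · rw [if_neg h, AddChar.sum_eq_zero_of_ne_one (by simpa [inv_mul_eq_one] using h), mul_zero,
      zero_smul]

theorem sum_proj (hx : ∀ a b, x (a + b) = x a * x b) : ∑ χ : AddChar α ℂ, proj ρ x χ = 1 := by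
  classical
  simp only [proj, ← Finset.smul_sum]
  rw [Finset.sum_comm]
  simp only [← Finset.sum_smul, AddChar.sum_apply_eq_ite, neg_eq_zero]
  rw [Finset.sum_eq_single (0 : α) (fun b _ hb => by rw [if_neg hb, zero_smul])
    (fun h => absurd (Finset.mem_univ _) h), if_pos rfl, x_zero hx, map_one, smul_smul,
    inv_mul_cancel₀ card_ne, one_smul]

/-- An element normalising the abelian subgroup moves the projections. -/
theorem comm_proj {g : Γ} {T : α → α} (hT : Function.Bijective T)
    (hA : ∀ a, g * x a = x (T a) * g) {χ χ' : AddChar α ℂ} (hχ : ∀ a, χ' (T a) = χ a)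
    (hneg : ∀ a, T (-a) = -T a) : ρ g * proj ρ x χ = proj ρ x χ' * ρ g := by
  rw [proj, proj, mul_smul_comm, smul_mul_assoc, Finset.mul_sum, Finset.sum_mul]
  congr 1
  refine Fintype.sum_bijective T hT _ _ fun a => ?_
  simp only [mul_smul_comm, smul_mul_assoc, ← map_mul, hA a, ← hneg, hχ]

/-- An element centralising the abelian subgroup commutes with the projections. -/
theorem comm_proj_self {g : Γ} (hA : ∀ a, g * x a = x a * g) (χ : AddChar α ℂ) :
    ρ g * proj ρ x χ = proj ρ x χ * ρ g :=
  comm_proj Function.bijective_id hA (fun _ => rfl) (fun _ => rfl)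

variable [FiniteDimensional ℂ V]

theorem trace_proj (hx : ∀ a b, x (a + b) = x a * x b) (χ : AddChar α ℂ) :
    LinearMap.trace ℂ V (proj ρ x χ) = (mult ρ x χ : ℂ) := by
  have hp : LinearMap.IsProj (LinearMap.range (proj ρ x χ)) (proj ρ x χ) := by
    refine ⟨fun v => LinearMap.mem_range_self _ _, ?_⟩
    rintro _ ⟨v, rfl⟩
    rw [← Module.End.mul_apply, proj_mul_proj hx, if_pos rfl]
  exact hp.trace

theorem mult_eq_of_comm (hx : ∀ a b, x (a + b) = x a * x b) {g : Γ} {χ χ' : AddChar α ℂ}
    (h : ρ g * proj ρ x χ = proj ρ x χ' * ρ g) : mult ρ x χ = mult ρ x χ' := by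
  have h1 : proj ρ x χ' = ρ g * proj ρ x χ * ρ g⁻¹ := by
    rw [h, mul_assoc, ← map_mul, mul_inv_cancel, map_one, mul_one]
  have : (mult ρ x χ : ℂ) = mult ρ x χ' := by
    rw [← trace_proj hx, ← trace_proj hx, h1, LinearMap.trace_mul_comm, ← mul_assoc, ← map_mul,
      inv_mul_cancel, map_one, one_mul]
  exact_mod_cast this

theorem sum_mult (hx : ∀ a b, x (a + b) = x a * x b) :
    ∑ χ : AddChar α ℂ, mult ρ x χ = finrank ℂ V := by
  have : ((∑ χ : AddChar α ℂ, mult ρ x χ : ℕ) : ℂ) = (finrank ℂ V : ℂ) := by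
    rw [Nat.cast_sum]
    simp only [← trace_proj hx]
    rw [← map_sum, sum_proj hx, LinearMap.trace_one]
  exact_mod_cast this

theorem le_finrank (hx : ∀ a b, x (a + b) = x a * x b) (T : Finset (AddChar α ℂ)) {k : ℕ}
    (hk : ∀ χ ∈ T, k ≤ mult ρ x χ) : T.card * k ≤ finrank ℂ V := by
  rw [← sum_mult (ρ := ρ) hx]
  refine le_trans ?_ (Finset.sum_le_sum_of_subset (Finset.subset_univ T))
  simpa using Finset.card_nsmul_le_sum T _ k hk

theorem exists_ne_one (hx : ∀ a b, x (a + b) = x a * x b) {a : α} (ha : ρ (x a) ≠ 1) :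
    ∃ χ : AddChar α ℂ, χ ≠ 1 ∧ 0 < mult ρ x χ := by
  by_contra hc
  push Not at hc
  apply ha
  have h0 : ∀ χ : AddChar α ℂ, χ ≠ 1 → proj ρ x χ = 0 := fun χ h => by
    have := hc χ h
    rw [Nat.le_zero, mult, Submodule.finrank_eq_zero, LinearMap.range_eq_bot] at this
    exact this
  have h1 : proj ρ x (1 : AddChar α ℂ) = 1 := by
    rw [← sum_proj (ρ := ρ) hx]
    exact (Finset.sum_eq_single _ (fun χ _ h => h0 χ h) (fun h => absurd (Finset.mem_univ _) h)).symm
  have := rho_mul_proj (ρ := ρ) hx 1 a
  rwa [h1, mul_one, AddChar.one_apply, one_smul] at this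

/-- A family of elements centralising the abelian subgroup whose quotients have vanishing trace on
an eigenspace is linearly independent there, so its cardinality is at most the square of the
multiplicity. -/
theorem card_le_mult_sq (hx : ∀ a b, x (a + b) = x a * x b) {κ : Type*} [Fintype κ] (y : κ → Γ)
    (χ : AddChar α ℂ) (hpos : 0 < mult ρ x χ) (hc : ∀ s a, y s * x a = x a * y s)
    (htr : ∀ s s', s ≠ s' →
      LinearMap.trace ℂ V (ρ ((y s)⁻¹ * y s') * proj ρ x χ) = 0) :
    Fintype.card κ ≤ mult ρ x χ * mult ρ x χ := by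
  classical
  set e := proj ρ x χ with he
  let L : Module.End ℂ V →ₗ[ℂ] Module.End ℂ (LinearMap.range e) :=
    { toFun := fun X => e.rangeRestrict ∘ₗ X ∘ₗ (LinearMap.range e).subtype
      map_add' := fun X Y => by ext; simp
      map_smul' := fun c X => by ext; simp }
  have hli : LinearIndependent ℂ (fun s => L (ρ (y s))) := by
    rw [Fintype.linearIndependent_iff]
    intro g hg s0
    have h0 : e * (∑ s, g s • ρ (y s)) * e = 0 := by
      apply LinearMap.ext
      intro v
      have h1 : L (∑ s, g s • ρ (y s)) = 0 := by rw [← hg, map_sum]; simp [map_smul]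
      have := congrArg Subtype.val (LinearMap.congr_fun h1 ⟨e v, LinearMap.mem_range_self e v⟩)
      simpa [L] using this
    have hcomm : ∀ s, e * ρ (y s) * e = ρ (y s) * e := fun s => by
      rw [he, ← comm_proj_self (hc s), mul_assoc, proj_mul_proj hx, if_pos rfl]
    rw [Finset.mul_sum, Finset.sum_mul] at h0
    simp only [mul_smul_comm, smul_mul_assoc, hcomm] at h0
    have := congrArg (fun X => LinearMap.trace ℂ V (ρ (y s0)⁻¹ * X)) h0
    simp only [Finset.mul_sum, mul_smul_comm, map_sum, map_smul, mul_zero, map_zero,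
      ← mul_assoc, ← map_mul] at this
    rw [Finset.sum_eq_single s0 (fun s _ hs => by rw [he, htr s0 s (Ne.symm hs), smul_zero])
      (fun h => absurd (Finset.mem_univ _) h), inv_mul_cancel, map_one, one_mul, he, trace_proj hx,
      smul_eq_mul, mul_eq_zero] at this
    exact this.resolve_right (Nat.cast_ne_zero.2 hpos.ne')
  have := hli.fintype_card_le_finrank
  rwa [Module.finrank_linearMap] at this

omit [FiniteDimensional ℂ V] in
/-- If the group is simple modulo its centre then a representation which is irreducible of degree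
at least two is nontrivial outside the centre. -/
theorem rho_ne_one {G : Type w} [Group G] [IsSimpleGroup (G ⧸ Subgroup.center G)] {k : ℕ}
    (ρ : Representation ℂ G (Fin k → ℂ)) (hirr : ρ.IsIrreducible) (hk : 2 ≤ k) {g : G}
    (hg : g ∉ Subgroup.center G) : ρ g ≠ 1 := by
  intro h1
  have hne : ρ.ker.map (QuotientGroup.mk' (Subgroup.center G)) ≠ ⊥ := by
    intro h
    apply hg
    rw [← QuotientGroup.eq_one_iff]
    have : QuotientGroup.mk' (Subgroup.center G) g ∈ ρ.ker.map (QuotientGroup.mk' _) :=
      Subgroup.mem_map_of_mem _ (MonoidHom.mem_ker.2 h1)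
    rwa [h, Subgroup.mem_bot] at this
  have hn : (ρ.ker.map (QuotientGroup.mk' (Subgroup.center G))).Normal :=
    Subgroup.Normal.map inferInstance _ (QuotientGroup.mk'_surjective _)
  have htop := (hn.eq_bot_or_eq_top).resolve_left hne
  have hcomm : ∀ a b : G, ρ a * ρ b = ρ b * ρ a := by
    intro a b
    have : QuotientGroup.mk' (Subgroup.center G) a ∈ ρ.ker.map (QuotientGroup.mk' _) := by
      rw [htop]; trivial
    obtain ⟨c, hc, hca⟩ := this
    obtain ⟨z, hz, hcz⟩ := (QuotientGroup.mk'_eq_mk' _).1 hca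
    have : ρ a = ρ z := by rw [← hcz, map_mul, MonoidHom.mem_ker.1 hc, one_mul]
    rw [this, ← map_mul, ← map_mul, Subgroup.mem_center_iff.1 hz b]
  have : Nonempty (Fin k) := ⟨⟨0, by omega⟩⟩
  have hscalar : ∀ a : G, ∃ μ : ℂ, ρ a = μ • (1 : Module.End ℂ (Fin k → ℂ)) := by
    intro a
    obtain ⟨μ, hμ⟩ := Module.End.exists_eigenvalue (ρ a)
    refine ⟨μ, ?_⟩
    let U : Subrepresentation ρ :=
      { toSubmodule := Module.End.eigenspace (ρ a) μ
        apply_mem_toSubmodule := fun b w hw => by
          rw [Module.End.mem_eigenspace_iff] at hw ⊢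
          rw [← Module.End.mul_apply, hcomm, Module.End.mul_apply, hw, map_smul] }
    rcases hirr.eq_bot_or_eq_top U with h | h
    · exact absurd (show U.toSubmodule = ⊥ by rw [h]; rfl) hμ
    · apply LinearMap.ext
      intro w
      have hw : w ∈ U.toSubmodule := by rw [h]; trivial
      exact Module.End.mem_eigenspace_iff.1 hw
  let v : Fin k → ℂ := Pi.single ⟨0, by omega⟩ 1
  let U : Subrepresentation ρ :=
    { toSubmodule := Submodule.span ℂ {v}
      apply_mem_toSubmodule := fun b w hw => by
        obtain ⟨μ, hμ⟩ := hscalar b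
        rw [hμ]
        exact Submodule.smul_mem _ _ hw }
  have hv : v ≠ 0 := by simp [v]
  rcases hirr.eq_bot_or_eq_top U with h | h
  · apply hv
    have hm : v ∈ U.toSubmodule := Submodule.mem_span_singleton_self v
    rw [h] at hm
    exact (Submodule.mem_bot ℂ).1 hm
  · have h1 : finrank ℂ U.toSubmodule = 1 := finrank_span_singleton hv
    rw [h, show (⊤ : Subrepresentation ρ).toSubmodule = ⊤ from rfl, finrank_top,
      Module.finrank_pi, Fintype.card_fin] at h1
    omega

end Cfsg.Agent.Lib.MinDegForms
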